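import Mathlib

/-!
Maximal ideals with separable residue field in a smooth algebra over a field.
-/

universe u

namespace GrothLib.SepPoint

variable (k : Type u) [Field k]

theorem exists_separable_of_etale {n : ℕ} (C : Type u) [CommRing C] [Nontrivial C]
    [Algebra (MvPolynomial (Fin n) k) C] [Algebra k C] [IsScalarTower k (MvPolynomial (Fin n) k) C]
    [Algebra.Etale (MvPolynomial (Fin n) k) C] [Infinite k] :
    ∃ q : Ideal C, ∃ _ : q.IsMaximal, Module.Finite k (C ⧸ q) ∧
      Algebra.FormallyUnramified k (C ⧸ q) := by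
  let P := MvPolynomial (Fin n) k
  haveI : Module.Flat P C := inferInstance
  have hopen : IsOpen (Set.range (PrimeSpectrum.comap (algebraMap P C))) :=
    (PrimeSpectrum.isOpenMap_comap_of_hasGoingDown_of_finitePresentation (R := P) (S := C)).isOpen_range
  obtain ⟨p₀⟩ : Nonempty (PrimeSpectrum C) := inferInstance
  obtain ⟨_, ⟨h, rfl⟩, hp, hsub⟩ := PrimeSpectrum.isTopologicalBasis_basic_opens.exists_subset_of_mem_open
    (Set.mem_range_self p₀ (f := PrimeSpectrum.comap (algebraMap P C))) hopen
  have hh : h ≠ 0 := by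
    rintro rfl
    exact hp (zero_mem _)
  obtain ⟨a, ha⟩ : ∃ a : Fin n → k, MvPolynomial.eval a h ≠ 0 := by
    by_contra hc
    push_neg at hc
    exact hh (MvPolynomial.funext fun a => by simp [hc a])
  have hker : (RingHom.ker (MvPolynomial.eval a)).IsPrime := RingHom.ker_isPrime _
  obtain ⟨⟨q, hq⟩, hqa⟩ := hsub (show (⟨RingHom.ker (MvPolynomial.eval a), hker⟩ : PrimeSpectrum P) ∈
    PrimeSpectrum.basicOpen h from ha)
  have hqm : q.comap (algebraMap P C) = RingHom.ker (MvPolynomial.eval a) :=
    congrArg PrimeSpectrum.asIdeal hqa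
  letI : Algebra P k := (MvPolynomial.eval a).toAlgebra
  haveI : IsScalarTower P k (C ⧸ q) := IsScalarTower.of_algebraMap_eq fun p => by
    have hC : algebraMap k (C ⧸ q) (MvPolynomial.eval a p) =
        algebraMap P (C ⧸ q) (MvPolynomial.C (MvPolynomial.eval a p)) :=
      IsScalarTower.algebraMap_apply k P (C ⧸ q) _
    rw [RingHom.algebraMap_toAlgebra (MvPolynomial.eval a), hC, IsScalarTower.algebraMap_apply P C (C ⧸ q) p,
      IsScalarTower.algebraMap_apply P C (C ⧸ q) (MvPolynomial.C _)]
    refine Ideal.Quotient.eq.2 ?_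
    rw [← map_sub, ← Ideal.mem_comap, hqm, RingHom.mem_ker, map_sub, MvPolynomial.eval_C, sub_self]
  haveI : Algebra.FormallyUnramified P (C ⧸ q) := Algebra.FormallyUnramified.comp P C (C ⧸ q)
  haveI : Algebra.FormallyUnramified k (C ⧸ q) := Algebra.FormallyUnramified.of_restrictScalars P k (C ⧸ q)
  haveI : Algebra.FiniteType P C := inferInstance
  haveI : Algebra.FiniteType k C := Algebra.FiniteType.trans (S := P) inferInstance inferInstance
  haveI : Algebra.FiniteType k (C ⧸ q) := inferInstance
  haveI : Module.Finite k (C ⧸ q) := Algebra.FormallyUnramified.finite_of_free k (C ⧸ q)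
  exact ⟨q, Ideal.Quotient.maximal_of_isField _ (Algebra.IsIntegral.isField_iff_isField
    (algebraMap k (C ⧸ q)).injective |>.1 (Field.toIsField k)), inferInstance, inferInstance⟩

/-- A nonzero smooth algebra over a field has a maximal ideal with finite separable residue field. -/
theorem exists_maximal_separable (B : Type u) [CommRing B] [Algebra k B] [Algebra.Smooth k B]
    [Nontrivial B] :
    ∃ (q : Ideal B) (_ : q.IsMaximal), Module.Finite k (B ⧸ q) ∧ Algebra.IsSeparable k (B ⧸ q) := by
  rcases finite_or_infinite k with hk | hk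
  · obtain ⟨q, hq⟩ := Ideal.exists_maximal B
    letI := Ideal.Quotient.field q
    haveI : Module.Finite k (B ⧸ q) := finite_of_finite_type_of_isJacobsonRing k (B ⧸ q)
    exact ⟨q, hq, inferInstance, inferInstance⟩
  obtain ⟨p⟩ : Nonempty (PrimeSpectrum B) := inferInstance
  haveI : Algebra.IsSmoothAt k p.asIdeal := inferInstance
  obtain ⟨f, hf, n, _, _, _⟩ := Algebra.IsSmoothAt.exists_isStandardEtale_mvPolynomial (R := k) (p := p.asIdeal)
  haveI : Nontrivial (Localization.Away f) := not_subsingleton_iff_nontrivial.1 fun h => by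
    obtain ⟨m, hm⟩ := (IsLocalization.subsingleton_iff (M := Submonoid.powers f)
      (S := Localization.Away f)).1 h
    exact hf (p.2.mem_of_pow_mem m ((show f ^ m = 0 from hm) ▸ zero_mem _))
  obtain ⟨q, hq, hfin, hunr⟩ := exists_separable_of_etale k (n := n) (Localization.Away f)
  letI := Ideal.Quotient.field q
  haveI := hunr
  haveI := hfin
  haveI : Algebra.IsSeparable k (Localization.Away f ⧸ q) := Algebra.FormallyUnramified.isSeparable k _
  let g : B ⧸ q.comap (algebraMap B (Localization.Away f)) →ₐ[k] Localization.Away f ⧸ q :=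
    Ideal.quotientMapₐ q (IsScalarTower.toAlgHom k B _) le_rfl
  have hg : Function.Injective g := Ideal.quotientMap_injective
  haveI : Module.Finite k (B ⧸ q.comap (algebraMap B (Localization.Away f))) :=
    Module.Finite.of_injective g.toLinearMap hg
  haveI hmax : (q.comap (algebraMap B (Localization.Away f))).IsMaximal :=
    Ideal.Quotient.maximal_of_isField _ (Algebra.IsIntegral.isField_iff_isField
      (algebraMap k (B ⧸ q.comap (algebraMap B (Localization.Away f)))).injective |>.1 (Field.toIsField k))
  letI := Ideal.Quotient.field (q.comap (algebraMap B (Localization.Away f)))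
  exact ⟨_, hmax, inferInstance, Algebra.IsSeparable.of_algHom k _ g⟩

end GrothLib.SepPoint
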