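import Groth.Prelude.Def_SGA4b
import Groth.Agent.Lib.EtSite.Points

/-!
# The small etale site of a separably closed field

Every point of an etale scheme over a separably closed field is the image of a unique section, so
global sections give an equivalence between sheaves of sets and sets.
-/

universe u

open CategoryTheory CategoryTheory.Limits AlgebraicGeometry Opposite
open GrothLib.EtSite

noncomputable section

namespace GrothLib.SepPoint

variable {k : Type u} [Field k] [IsSepClosed k]

local notation "S" => Spec (CommRingCat.of k)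
local notation "T" => EtCoh.top (Spec (CommRingCat.of k))

lemma exists_hom (U : Scheme.Etale (Spec (CommRingCat.of k))) (u : U.left) :
    ∃ t : T ⟶ U, t.left.base (default : Spec (CommRingCat.of k)) = u := by
  obtain ⟨l, hl⟩ := exists_fib (𝟙 (Spec (CommRingCat.of k))) (U := U) u (@Subsingleton.elim (Spec (CommRingCat.of k)) inferInstance _ _)
  exact ⟨MorphismProperty.Over.homMk l.left (Over.w l), hl⟩

lemma hom_ext {U : Scheme.Etale (Spec (CommRingCat.of k))} {t t' : T ⟶ U}
    (h : t.left.base (default : Spec (CommRingCat.of k)) = t'.left.base (default : Spec (CommRingCat.of k))) :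
    t = t' := by
  apply MorphismProperty.Over.Hom.ext
  obtain ⟨⟨x, φ⟩, hφ⟩ := (Scheme.SpecToEquivOfField k U.left).symm.surjective t.left
  obtain ⟨⟨x', φ'⟩, hφ'⟩ := (Scheme.SpecToEquivOfField k U.left).symm.surjective t'.left
  rw [Scheme.SpecToEquivOfField_symm_apply] at hφ hφ'
  have hb : ∀ (x : U.left) (m : U.left.residueField x ⟶ CommRingCat.of k),
      (Spec.map m ≫ U.left.fromSpecResidueField x).base (default : Spec (CommRingCat.of k)) = x :=
    fun x m => by rw [Scheme.Hom.comp_apply, Scheme.fromSpecResidueField_apply]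
  have hx : x = x' :=
    (hb x φ).symm.trans ((congrArg (fun m => m.base (default : Spec (CommRingCat.of k))) hφ).trans
      (h.trans ((congrArg (fun m => m.base (default : Spec (CommRingCat.of k))) hφ').symm.trans (hb x' φ'))))
  subst hx
  obtain ⟨χ, hχ⟩ : ∃ χ : CommRingCat.of k ⟶ U.left.residueField x,
      Spec.map χ = U.left.fromSpecResidueField x ≫ U.hom := Spec.map_surjective _
  have e : ∀ (m : U.left.residueField x ⟶ CommRingCat.of k) (r : T ⟶ U),
      Spec.map m ≫ U.left.fromSpecResidueField x = r.left → χ ≫ m = 𝟙 _ := fun m r hm => by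
    apply Spec.map_injective
    rw [Spec.map_comp, Spec.map_id, hχ, ← Category.assoc, hm]
    exact MorphismProperty.Over.w r
  have e₁ := e φ t hφ
  have e₂ := e φ' t' hφ'
  have hs : Function.Surjective χ.hom := fun a =>
    ⟨φ.hom a, φ.hom.injective (congrArg (fun m : CommRingCat.of k ⟶ CommRingCat.of k => m.hom (φ.hom a)) e₁)⟩
  have : φ = φ' := by
    ext a
    obtain ⟨b, rfl⟩ := hs a
    exact congrArg (fun m : CommRingCat.of k ⟶ CommRingCat.of k => m.hom b) (e₁.trans e₂.symm)
  rw [← hφ, ← hφ', this]

lemma endo_eq_id (t : T ⟶ T) : t = 𝟙 _ :=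
  hom_ext (@Subsingleton.elim (Spec (CommRingCat.of k)) inferInstance _ _)

lemma mem_of_covering {U : Scheme.Etale (Spec (CommRingCat.of k))} {R : Sieve U}
    (hR : R ∈ (Spec (CommRingCat.of k)).smallEtaleTopology U) (t : T ⟶ U) : R t := by
  obtain ⟨V, g, v, hg, hv⟩ := (mem_topology_iff R).1 hR (t.left.base (default : Spec (CommRingCat.of k)))
  obtain ⟨r, hr⟩ := exists_hom V v
  rw [← hom_ext (t := r ≫ g) (t' := t) ((congrArg g.left.base hr).trans hv)]
  exact R.downward_closed hg r

lemma cover_mem (U : Scheme.Etale (Spec (CommRingCat.of k))) :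
    Sieve.generate (Presieve.ofArrows _ fun t : T ⟶ U => t) ∈ (Spec (CommRingCat.of k)).smallEtaleTopology U := by
  refine (mem_topology_iff _).2 fun u => ?_
  obtain ⟨t, ht⟩ := exists_hom U u
  exact ⟨_, t, _, Sieve.le_generate _ _ _ (Presieve.ofArrows.mk t), ht⟩

/-- Functions on the set of sections. -/
def fnPre (A : Type (u + 1)) : (Scheme.Etale (Spec (CommRingCat.of k)))ᵒᵖ ⥤ Type (u + 1) where
  obj U := (T ⟶ U.unop) → A
  map g := TypeCat.ofHom fun z t => z (t ≫ g.unop)
  map_id U := by
    ext z t
    exact congrArg z (Category.comp_id t)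
  map_comp g h := by
    ext z t
    exact congrArg z (Category.assoc _ _ _).symm

lemma isSheaf_fnPre (A : Type (u + 1)) :
    Presheaf.IsSheaf (Spec (CommRingCat.of k)).smallEtaleTopology (fnPre (k := k) A) := by
  rw [isSheaf_iff_isSheaf_of_type]
  intro U R hR x hx
  refine ⟨fun t => x t (mem_of_covering hR t) (𝟙 _), fun V g hg => funext fun r => ?_, fun z hz => funext fun t => ?_⟩
  · change x (r ≫ g) (mem_of_covering hR _) (𝟙 _) = x g hg r
    rw [show x (r ≫ g) (mem_of_covering hR _) = (fnPre A).map r.op (x g hg) from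
      (Presieve.compatible_iff_sieveCompatible _).1 hx g r hg]
    exact congrArg (x g hg) (Category.id_comp r)
  · change _ = x t (mem_of_covering hR t) (𝟙 _)
    rw [← hz t (mem_of_covering hR t)]
    exact congrArg z (Category.id_comp t).symm

/-- The sheaf of functions on the set of sections. -/
def fnSh : Type (u + 1) ⥤ EtDesc.Sh (Spec (CommRingCat.of k)) where
  obj A := ⟨fnPre A, isSheaf_fnPre A⟩
  map {A B} φ := ⟨{ app := fun U => TypeCat.ofHom fun z t => φ (z t) }⟩

/-- Global sections. -/
abbrev Γfun (k : Type u) [Field k] : EtDesc.Sh (Spec (CommRingCat.of k)) ⥤ Type (u + 1) :=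
  (sheafSections (Spec (CommRingCat.of k)).smallEtaleTopology (Type (u + 1))).obj
    (op (EtCoh.top (Spec (CommRingCat.of k))))

lemma bijective_eval (G : EtDesc.Sh (Spec (CommRingCat.of k))) (U : Scheme.Etale (Spec (CommRingCat.of k))) :
    Function.Bijective (fun (s : G.obj.obj (op U)) (t : T ⟶ U) => G.obj.map t.op s) := by
  have hG : Presieve.IsSheaf (Spec (CommRingCat.of k)).smallEtaleTopology G.obj :=
    (isSheaf_iff_isSheaf_of_type _ _).1 G.property
  have hsep : ∀ (V : Scheme.Etale (Spec (CommRingCat.of k))) (a b : G.obj.obj (op V)),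
      (∀ r : T ⟶ V, G.obj.map r.op a = G.obj.map r.op b) → a = b := fun V a b hab => by
    refine ((Presieve.isSheafFor_iff_generate _).2 (hG _ (cover_mem V))).isSeparatedFor.ext ?_
    rintro _ _ ⟨r⟩
    exact hab r
  refine ⟨fun a b h => hsep U a b (congrFun h), fun z => ?_⟩
  obtain ⟨s, hs, -⟩ := (Presieve.isSheafFor_arrows_iff _ _).1
    ((Presieve.isSheafFor_iff_generate _).2 (hG _ (cover_mem U))) z (fun t t' Z p q hpq => hsep Z _ _ fun r => by
      have e₁ := endo_eq_id (r ≫ p)
      have e₂ := endo_eq_id (r ≫ q)
      have htt : t = t' := by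
        have : (r ≫ p) ≫ t = (r ≫ q) ≫ t' := by rw [Category.assoc, Category.assoc, hpq]
        rwa [e₁, e₂, Category.id_comp, Category.id_comp] at this
      subst htt
      rw [← ConcreteCategory.comp_apply, ← Functor.map_comp, ← op_comp, e₁,
        ← ConcreteCategory.comp_apply, ← Functor.map_comp, ← op_comp, e₂])
  exact ⟨s, funext hs⟩

/-- A sheaf is the sheaf of functions to its global sections. -/
def toFn : 𝟭 (EtDesc.Sh (Spec (CommRingCat.of k))) ⟶ Γfun k ⋙ fnSh where
  app G := ⟨{ app := fun U => TypeCat.ofHom fun (s : G.obj.obj U) (t : T ⟶ U.unop) => G.obj.map t.op s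
              naturality := fun U V g => by
                ext s
                funext t
                exact (ConcreteCategory.congr_hom (G.obj.map_comp g t.op) s).symm }⟩
  naturality G G' a := by
    ext U s
    funext t
    exact (NatTrans.naturality_apply a.hom t.op s).symm

instance isIso_toFn : IsIso (toFn (k := k)) := by
  have : ∀ G : EtDesc.Sh (Spec (CommRingCat.of k)), IsIso ((toFn (k := k)).app G) := fun G => by
    have : ∀ U, IsIso (((toFn (k := k)).app G).hom.app U) := fun U =>
      (ConcreteCategory.isIso_iff_bijective _).2 (bijective_eval G U.unop)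
    have : IsIso ((toFn (k := k)).app G).hom := NatIso.isIso_of_isIso_app _
    haveI : IsIso ((sheafToPresheaf _ _).map ((toFn (k := k)).app G)) := this
    exact isIso_of_reflects_iso _ (sheafToPresheaf _ _)
  exact NatIso.isIso_of_isIso_app _

/-- Functions on the unique section. -/
def evalFn : fnSh ⋙ Γfun k ≅ 𝟭 (Type (u + 1)) :=
  NatIso.ofComponents (fun A => Equiv.toIso
    { toFun := fun z => z (𝟙 _)
      invFun := fun a _ => a
      left_inv := fun z => funext fun t => by rw [endo_eq_id t]
      right_inv := fun a => rfl })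

/-- Sheaves of sets on the etale site of a separably closed field are sets. -/
theorem isEquivalence_Γ : (Γfun k).IsEquivalence :=
  (CategoryTheory.Equivalence.mk (Γfun k) fnSh (asIso toFn) evalFn).isEquivalence_functor

set_option backward.isDefEq.respectTransparency.types false in
/-- Inverse image between separably closed fields is an equivalence. -/
theorem isEquivalence_pullSh (k' : Type u) [Field k'] [IsSepClosed k'] [Algebra k k'] :
    (EtDesc.pullSh (Spec.map (CommRingCat.ofHom (algebraMap k k')))).IsEquivalence := by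
  let f := Spec.map (CommRingCat.ofHom (algebraMap k k'))
  let e : EtDesc.pushSh f ⋙ Γfun k ≅ Γfun k' :=
    NatIso.ofComponents (fun G => G.obj.mapIso (EtCore.bcTopIso f).symm.op)
      (fun {G G'} a => a.hom.naturality _ |>.symm)
  haveI := isEquivalence_Γ (k := k)
  haveI := isEquivalence_Γ (k := k')
  haveI : (EtDesc.pushSh f ⋙ Γfun k).IsEquivalence := Functor.isEquivalence_of_iso e.symm
  haveI : (EtDesc.pushSh f).IsEquivalence := Functor.isEquivalence_of_comp_right _ (Γfun k)
  exact (EtDesc.adjSh f).isEquivalence_left_of_isEquivalence_right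

end GrothLib.SepPoint
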